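import Groth.Agent.H90.FreeLocus
import Groth.Agent.H31.MVShriek
import Groth.Agent.H22.QCohLimits
import Groth.Agent.H8.UnitIso
import Groth.Agent.H8.InvRestrict

/-!
# Local triviality at a point, and gluing two modules along a decomposition into two disjoint opens
-/

set_option backward.isDefEq.respectTransparency false
set_option autoImplicit false
set_option linter.style.haveILetI false
universe u
open CategoryTheory CategoryTheory.Limits AlgebraicGeometry TopologicalSpace Opposite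
open AlgebraicGeometry.Scheme.Modules

namespace Groth.Agent.H17.ExtInv

open Groth.Agent.H31.MVS

variable {X : Scheme.{u}}

/-- `M` is free of rank one on an open neighbourhood of `x`. -/
def FreeAt1 (M : X.Modules) (x : X) : Prop :=
  ∃ W : X.Opens, x ∈ W ∧ Nonempty (M.restrict W.ι ≅ FlatMod.freeMod (↑W) 1)

lemma FreeAt1.of_iso {M N : X.Modules} (e : M ≅ N) {x : X} (h : FreeAt1 M x) : FreeAt1 N x := by
  obtain ⟨W, hx, ⟨i⟩⟩ := h
  exact ⟨W, hx, ⟨(restrictFunctor W.ι).mapIso e.symm ≪≫ i⟩⟩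

lemma FreeAt1.of_immersion {Z : Scheme.{u}} (j : Z ⟶ X) [IsOpenImmersion j] (z : Z)
    {M : X.Modules} (e : M.restrict j ≅ FlatMod.freeMod Z 1) : FreeAt1 M (j z) :=
  ⟨j.opensRange, ⟨z, rfl⟩, Groth.Agent.H90.QH.restrict_opensRange_iso_free j M 1 e⟩

lemma FreeAt1.of_restrict {Z : Scheme.{u}} (j : Z ⟶ X) [IsOpenImmersion j] {M : X.Modules} {z : Z}
    (h : FreeAt1 (M.restrict j) z) : FreeAt1 M (j z) := by
  obtain ⟨W, hz, ⟨e⟩⟩ := h
  exact FreeAt1.of_immersion (W.ι ≫ j) ⟨z, hz⟩ ((restrictFunctorComp W.ι j).app M ≪≫ e)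

lemma FreeAt1.restrict {Z : Scheme.{u}} (j : Z ⟶ X) [IsOpenImmersion j] {M : X.Modules} {z : Z}
    (h : FreeAt1 M (j z)) : FreeAt1 (M.restrict j) z := by
  obtain ⟨W, hz, ⟨e⟩⟩ := h
  refine ⟨j ⁻¹ᵁ W, hz, ⟨?_⟩⟩
  exact Groth.Agent.H8.restrictRestrictIsoOfComm M (j ⁻¹ᵁ W).ι j (j ∣_ W) W.ι
      (morphismRestrict_ι j W).symm ≪≫
    (restrictFunctor (j ∣_ W)).mapIso e ≪≫ Groth.Agent.H8.restrictFreeIso (j ∣_ W) 1

lemma freeAt1_of_isInvertible {M : X.Modules} (h : PicF.IsInvertible M) (x : X) : FreeAt1 M x := by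
  obtain ⟨W, hx, ⟨e⟩⟩ := h x
  exact ⟨W, hx, ⟨e ≪≫ Groth.Agent.H8.structureModuleIsoFreeModOne _⟩⟩

lemma isInvertible_of_freeAt1 {M : X.Modules} (h : ∀ x : X, FreeAt1 M x) : PicF.IsInvertible M := by
  intro x
  obtain ⟨W, hx, ⟨e⟩⟩ := h x
  exact ⟨W, hx, ⟨e ≪≫ (Groth.Agent.H8.structureModuleIsoFreeModOne _).symm⟩⟩

/-- local freeness of rank one passes along a morphism which is an isomorphism on the stalks at
all points of an open neighbourhood. -/
lemma freeAt1_of_stalkIso {N M : X.Modules} (φ : N ⟶ M) (C : X.Opens)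
    (h : ∀ y ∈ C, IsIso ((sk y).map φ)) {x : X} (hx : x ∈ C) (hM : FreeAt1 M x) : FreeAt1 N x := by
  haveI : IsIso ((restrictFunctor C.ι).map φ) := isIso_restrict_of_stalks C φ h
  have h1 : FreeAt1 (M.restrict C.ι) ⟨x, hx⟩ := FreeAt1.restrict C.ι (z := ⟨x, hx⟩) hM
  have h2 : FreeAt1 (N.restrict C.ι) ⟨x, hx⟩ :=
    FreeAt1.of_iso (asIso ((restrictFunctor C.ι).map φ)).symm h1
  exact FreeAt1.of_restrict C.ι (z := ⟨x, hx⟩) h2

/-- the first projection of a biproduct is an isomorphism on the stalk at a point where the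
second summand has zero stalk. -/
lemma isIso_sk_fst (P Q : X.Modules) (x : X) (hQ : Subsingleton ((sk x).obj Q)) :
    IsIso ((sk x).map (biprod.fst : P ⊞ Q ⟶ P)) := by
  rw [ConcreteCategory.isIso_iff_bijective]
  constructor
  · rw [injective_iff_map_eq_zero]
    intro z hz
    obtain ⟨W, hxW, t, rfl⟩ := TopCat.Presheaf.exists_germ_eq (P ⊞ Q).presheaf z
    have ht := Groth.Agent.H22.QCohLimits.biprod_total_app W t
    have e1 : ((sk x).map (biprod.fst : P ⊞ Q ⟶ P)) ((P ⊞ Q).presheaf.germ W x hxW t) =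
        P.presheaf.germ W x hxW ((biprod.fst : P ⊞ Q ⟶ P).app W t) :=
      TopCat.Presheaf.stalkFunctor_map_germ_apply W x hxW (biprod.fst : P ⊞ Q ⟶ P).mapPresheaf t
    have e2 : ((sk x).map (biprod.inl : P ⟶ P ⊞ Q))
        (P.presheaf.germ W x hxW ((biprod.fst : P ⊞ Q ⟶ P).app W t)) =
        (P ⊞ Q).presheaf.germ W x hxW ((biprod.inl : P ⟶ P ⊞ Q).app W
          ((biprod.fst : P ⊞ Q ⟶ P).app W t)) :=
      TopCat.Presheaf.stalkFunctor_map_germ_apply W x hxW (biprod.inl : P ⟶ P ⊞ Q).mapPresheaf _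
    have e3 : ((sk x).map (biprod.inr : Q ⟶ P ⊞ Q))
        (Q.presheaf.germ W x hxW ((biprod.snd : P ⊞ Q ⟶ Q).app W t)) =
        (P ⊞ Q).presheaf.germ W x hxW ((biprod.inr : Q ⟶ P ⊞ Q).app W
          ((biprod.snd : P ⊞ Q ⟶ Q).app W t)) :=
      TopCat.Presheaf.stalkFunctor_map_germ_apply W x hxW (biprod.inr : Q ⟶ P ⊞ Q).mapPresheaf _
    have e4 : Q.presheaf.germ W x hxW ((biprod.snd : P ⊞ Q ⟶ Q).app W t) = 0 :=
      Subsingleton.elim (α := ((sk x).obj Q)) _ _
    rw [e1] at hz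
    rw [← ht, map_add, ← e2, ← e3, hz, e4, map_zero, map_zero, add_zero]
  · intro p
    refine ⟨((sk x).map (biprod.inl : P ⟶ P ⊞ Q)) p, ?_⟩
    have : (sk x).map (biprod.inl : P ⟶ P ⊞ Q) ≫ (sk x).map (biprod.fst : P ⊞ Q ⟶ P) = 𝟙 _ := by
      rw [← CategoryTheory.Functor.map_comp, biprod.inl_fst, CategoryTheory.Functor.map_id]
    exact ConcreteCategory.congr_hom this p

/-- the second projection of a biproduct is an isomorphism on the stalk at a point where the
first summand has zero stalk. -/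
lemma isIso_sk_snd (P Q : X.Modules) (x : X) (hP : Subsingleton ((sk x).obj P)) :
    IsIso ((sk x).map (biprod.snd : P ⊞ Q ⟶ Q)) := by
  have h : (biprod.snd : P ⊞ Q ⟶ Q) = (biprod.braiding P Q).hom ≫ (biprod.fst : Q ⊞ P ⟶ Q) := by
    simp
  rw [h, Functor.map_comp]
  haveI := isIso_sk_fst Q P x hP
  infer_instance

/-- the module which is `A` on the open `C` and `B` on the open `V`, for disjoint `C` and `V`. -/
noncomputable def glue (C V : X.Opens) (A B : X.Modules) : X.Modules :=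
  (S C).obj A ⊞ (S V).obj B

/-- the comparison `glue C V A B ⟶ A`. -/
noncomputable def glueFst (C V : X.Opens) (A B : X.Modules) : glue C V A B ⟶ A :=
  biprod.fst ≫ (ε C).app A

/-- the comparison `glue C V A B ⟶ B`. -/
noncomputable def glueSnd (C V : X.Opens) (A B : X.Modules) : glue C V A B ⟶ B :=
  biprod.snd ≫ (ε V).app B

lemma isIso_sk_glueFst (C V : X.Opens) (A B : X.Modules) (x : X) (hC : x ∈ C) (hV : x ∉ V) :
    IsIso ((sk x).map (glueFst C V A B)) := by
  unfold glueFst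
  rw [Functor.map_comp]
  haveI := isIso_sk_fst ((S C).obj A) ((S V).obj B) x
    (subsingleton_sk_extZero V ((restrictFunctor V.ι).obj B) x hV)
  haveI := isIso_sk_ε C A x hC
  infer_instance

lemma isIso_sk_glueSnd (C V : X.Opens) (A B : X.Modules) (x : X) (hC : x ∉ C) (hV : x ∈ V) :
    IsIso ((sk x).map (glueSnd C V A B)) := by
  unfold glueSnd
  rw [Functor.map_comp]
  haveI := isIso_sk_snd ((S C).obj A) ((S V).obj B) x
    (subsingleton_sk_extZero C ((restrictFunctor C.ι).obj A) x hC)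
  haveI := isIso_sk_ε V B x hV
  infer_instance

end Groth.Agent.H17.ExtInv
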